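import Mathlib

/-!
# S2927, alternating groups: permutations

* `two_bot` : a 2-subgroup of `Perm α`, `5 ≤ |α|`, normalised by the 3-cycles is trivial;
* `klein` : a 2-group acting on 4 points centralises an even involution;
* `pairs_bot` : a 2-subgroup of the centralizer of an involution `ζ` with at least 5 transpositions, normalised by the
  even permutations of this centralizer, fixes every transposition of `ζ`.
-/

set_option autoImplicit false

namespace Cfsg.Agent.H138.Tall

open Equiv Equiv.Perm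

theorem exists_ne3 {α : Type*} [Finite α] (h : 4 ≤ Nat.card α) (a b c : α) : ∃ d, d ≠ a ∧ d ≠ b ∧ d ≠ c := by
  classical
  have := Fintype.ofFinite α
  by_contra hc
  push Not at hc
  have h1 : (Finset.univ : Finset α) ⊆ {a, b, c} := by
    intro d _
    simp only [Finset.mem_insert, Finset.mem_singleton]
    by_cases h1 : d = a
    · exact Or.inl h1
    · by_cases h2 : d = b
      · exact Or.inr (Or.inl h2)
      · exact Or.inr (Or.inr (hc d h1 h2))
  have h2 := Finset.card_le_card h1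
  rw [Finset.card_univ, ← Nat.card_eq_fintype_card] at h2
  have h3 : ({a, b, c} : Finset α).card ≤ 3 := Finset.card_le_three
  omega

/-- only `1` commutes with all 3-cycles -/
theorem eq_one_of_comm {α : Type*} [Finite α] [DecidableEq α] (h : 4 ≤ Nat.card α) {g : Perm α}
    (hg : ∀ x y z : α, x ≠ y → x ≠ z → y ≠ z → g * (swap x y * swap x z) = swap x y * swap x z * g) : g = 1 := by
  by_contra hne
  obtain ⟨x, hx⟩ : ∃ x, g x ≠ x := by
    by_contra hc
    push Not at hc
    exact hne (Equiv.ext hc)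
  obtain ⟨y, hy1, hy2, -⟩ := exists_ne3 h x (g x) x
  obtain ⟨z, hz1, hz2, hz3⟩ := exists_ne3 h x (g x) y
  have h1 := congrArg (fun f : Perm α => f x) (hg x y z hy1.symm hz1.symm hz3.symm)
  simp only [Perm.mul_apply, swap_apply_left] at h1
  rw [swap_apply_of_ne_of_ne hz1 hz3, swap_apply_of_ne_of_ne hx hz2.symm, swap_apply_of_ne_of_ne hx hy2.symm] at h1
  exact hz1 (g.injective h1)

theorem exists_three {α : Type*} [Finite α] (h : 3 ≤ Nat.card α) : ∃ x y z : α, x ≠ y ∧ x ≠ z ∧ y ≠ z := by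
  have := Fintype.ofFinite α
  rw [Nat.card_eq_fintype_card] at h
  obtain ⟨x, y, z, h1, h2, h3⟩ := Fintype.two_lt_card_iff.1 h
  exact ⟨x, y, z, h1, h2, h3⟩

/-- **a 2-group normalised by the alternating group is trivial** -/
theorem two_bot {α : Type*} [Fintype α] [DecidableEq α] (h5 : 5 ≤ Nat.card α) (H : Subgroup (Perm α))
    (hH : ∀ h ∈ H, ∃ k : ℕ, h ^ 2 ^ k = 1)
    (hn : ∀ σ : Perm α, σ.IsThreeCycle → ∀ h ∈ H, σ * h * σ⁻¹ ∈ H) : H = ⊥ := by
  have hn' : ∀ σ ∈ alternatingGroup α, ∀ h ∈ H, σ * h * σ⁻¹ ∈ H := by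
    intro σ hσ
    rw [← closure_three_cycles_eq_alternating] at hσ
    induction hσ using Subgroup.closure_induction with
    | mem x hx => exact hn x hx
    | one => intro h hh; simpa using hh
    | mul x y _ _ hx hy =>
      intro h hh
      have := hx _ (hy h hh)
      have e : x * y * h * (x * y)⁻¹ = x * (y * h * y⁻¹) * x⁻¹ := by group
      rwa [e]
    | inv x hx' hx =>
      intro h hh
      -- finite order
      have key : ∀ n : ℕ, ∀ h ∈ H, x ^ n * h * (x ^ n)⁻¹ ∈ H := by
        intro n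
        induction n with
        | zero => intro h hh; simpa using hh
        | succ n ih =>
          intro h hh
          have := ih _ (hx h hh)
          have e : x ^ (n + 1) * h * (x ^ (n + 1))⁻¹ = x ^ n * (x * h * x⁻¹) * (x ^ n)⁻¹ := by
            rw [pow_succ]; group
          rwa [e]
      have h1 : x⁻¹ = x ^ (orderOf x - 1) := by
        rw [inv_eq_iff_mul_eq_one, ← pow_succ']
        have : orderOf x - 1 + 1 = orderOf x := Nat.sub_add_cancel (orderOf_pos x)
        rw [this, pow_orderOf_eq_one]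
      rw [h1]
      exact key _ h hh
  have hs : IsSimpleGroup (alternatingGroup α) := alternatingGroup.isSimpleGroup h5
  have hN : (H.subgroupOf (alternatingGroup α)).Normal :=
    ⟨fun h hh σ => hn' σ σ.2 h hh⟩
  rcases hN.eq_bot_or_eq_top with h1 | h1
  · rw [eq_bot_iff]
    intro g hg
    rw [Subgroup.mem_bot]
    refine eq_one_of_comm (by omega) (fun x y z hxy hxz hyz => ?_)
    have h3 := isThreeCycle_swap_mul_swap_same hxy hxz hyz
    set c := swap x y * swap x z with hc
    have h4 : c * g * c⁻¹ * g⁻¹ ∈ H := H.mul_mem (hn c h3 g hg) (H.inv_mem hg)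
    have h5' : c * g * c⁻¹ * g⁻¹ ∈ alternatingGroup α := by
      rw [mem_alternatingGroup]
      simp only [map_mul, map_inv]
      rw [h3.sign]
      simp
    have h6 : (⟨_, h5'⟩ : alternatingGroup α) ∈ H.subgroupOf (alternatingGroup α) := h4
    rw [h1, Subgroup.mem_bot] at h6
    have h7 : c * g * c⁻¹ * g⁻¹ = 1 := congrArg Subtype.val h6
    rw [mul_inv_eq_one, mul_inv_eq_iff_eq_mul] at h7
    exact h7.symm
  · exfalso
    obtain ⟨x, y, z, hxy, hxz, hyz⟩ := exists_three (α := α) (by omega)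
    have h3 := isThreeCycle_swap_mul_swap_same hxy hxz hyz
    have h4 : (⟨_, h3.mem_alternatingGroup⟩ : alternatingGroup α) ∈ H.subgroupOf (alternatingGroup α) := by
      rw [h1]; trivial
    obtain ⟨k, hk⟩ := hH _ h4
    have h5' := orderOf_dvd_of_pow_eq_one hk
    change orderOf (swap x y * swap x z) ∣ 2 ^ k at h5'
    rw [h3.orderOf] at h5'
    have := (Nat.Prime.dvd_of_dvd_pow Nat.prime_three h5')
    omega

theorem card_klein : Fintype.card {v : Perm (Fin 4) // v * v = 1 ∧ v ≠ 1 ∧ sign v = 1} = 3 := by decide +kernel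

/-- a 2-group acting on 4 points centralises an even involution -/
theorem klein {P : Type*} [Group P] [Finite P] (hP : IsPGroup 2 P) (f : P →* Perm (Fin 4)) :
    ∃ v : Perm (Fin 4), v * v = 1 ∧ v ≠ 1 ∧ sign v = 1 ∧ ∀ g, f g * v = v * f g := by
  let _ : MulAction P {v : Perm (Fin 4) // v * v = 1 ∧ v ≠ 1 ∧ sign v = 1} :=
    { smul := fun g v => ⟨f g * v.1 * (f g)⁻¹, by
        obtain ⟨v, h1, h2, h3⟩ := v
        refine ⟨?_, ?_, ?_⟩
        · have e : f g * v * (f g)⁻¹ * (f g * v * (f g)⁻¹) = f g * (v * v) * (f g)⁻¹ := by group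
          rw [e, h1]; group
        · intro h
          apply h2
          rw [mul_inv_eq_one] at h
          exact mul_eq_left.1 h
        · rw [map_mul, map_mul, h3, map_inv, mul_one, mul_inv_cancel]⟩
      one_smul := fun v => Subtype.ext (by
        change f 1 * v.1 * (f 1)⁻¹ = v.1
        rw [map_one]; group)
      mul_smul := fun a b v => Subtype.ext (by
        change f (a * b) * v.1 * (f (a * b))⁻¹ = f a * (f b * v.1 * (f b)⁻¹) * (f a)⁻¹
        rw [map_mul]; group) }
  have : Fact (Nat.Prime 2) := ⟨Nat.prime_two⟩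
  have h1 := hP.card_modEq_card_fixedPoints {v : Perm (Fin 4) // v * v = 1 ∧ v ≠ 1 ∧ sign v = 1}
  rw [Nat.card_eq_fintype_card, card_klein] at h1
  have h2 : Nonempty (MulAction.fixedPoints P {v : Perm (Fin 4) // v * v = 1 ∧ v ≠ 1 ∧ sign v = 1}) := by
    rw [← not_isEmpty_iff]
    intro h
    rw [Nat.card_of_isEmpty] at h1
    exact absurd h1 (by decide)
  obtain ⟨⟨v, hv⟩⟩ := h2
  refine ⟨v.1, v.2.1, v.2.2.1, v.2.2.2, fun g => ?_⟩
  have h3 := congrArg Subtype.val (hv g)
  change f g * v.1 * (f g)⁻¹ = v.1 at h3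
  rwa [mul_inv_eq_iff_eq_mul] at h3

section Pairs

variable {α : Type*} [Fintype α] [DecidableEq α]

theorem cycleOf_invol {ζ : Perm α} (h2 : ζ * ζ = 1) (i : α) : ζ.cycleOf i = swap i (ζ i) := by
  have h3 : ζ (ζ i) = i := by rw [← Perm.mul_apply, h2]; rfl
  have h4 : ∀ j, ζ.SameCycle i j → j = i ∨ j = ζ i := by
    rintro j ⟨k, rfl⟩
    have h5 : ζ ^ k = 1 ∨ ζ ^ k = ζ := by
      rcases Int.even_or_odd' k with ⟨m, rfl | rfl⟩
      · left
        rw [zpow_mul]
        have : ζ ^ (2 : ℤ) = 1 := by rw [zpow_ofNat, pow_two, h2]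
        rw [this, one_zpow]
      · right
        rw [zpow_add, zpow_mul]
        have : ζ ^ (2 : ℤ) = 1 := by rw [zpow_ofNat, pow_two, h2]
        rw [this, one_zpow, one_mul, zpow_one]
    rcases h5 with h5 | h5 <;> rw [h5]
    · left; rfl
    · right; rfl
  ext j
  by_cases hj : ζ.SameCycle i j
  · rw [hj.cycleOf_apply]
    rcases h4 j hj with rfl | rfl
    · rw [swap_apply_left]
    · rw [swap_apply_right, h3]
  · rw [Perm.cycleOf_apply_of_not_sameCycle hj]
    rw [swap_apply_of_ne_of_ne]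
    · rintro rfl; exact hj (Perm.SameCycle.refl _ _)
    · rintro rfl; exact hj (Perm.sameCycle_apply_right.2 (Perm.SameCycle.refl _ _))

theorem card_support_factor {ζ : Perm α} (h2 : ζ * ζ = 1) {c : Perm α} (hc : c ∈ ζ.cycleFactorsFinset) :
    c.support.card = 2 := by
  obtain ⟨i, hi⟩ := (Perm.mem_cycleFactorsFinset_iff.1 hc).1.nonempty_support
  have h3 : c = ζ.cycleOf i := (Perm.cycle_is_cycleOf hi hc)
  rw [h3, cycleOf_invol h2 i]
  refine Perm.card_support_swap ?_
  intro h
  have h4 := Perm.mem_cycleFactorsFinset_support_le hc hi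
  rw [Perm.mem_support] at h4
  exact h4 h.symm

theorem card_support_eq {ζ : Perm α} (h2 : ζ * ζ = 1) : ζ.support.card = 2 * ζ.cycleFactorsFinset.card := by
  rw [← Perm.sum_cycleType, Perm.cycleType_def]
  have h1 : Multiset.map (Finset.card ∘ Perm.support) ζ.cycleFactorsFinset.val =
      Multiset.map (fun _ => 2) ζ.cycleFactorsFinset.val :=
    Multiset.map_congr rfl (fun c hc => card_support_factor h2 hc)
  rw [h1, Multiset.map_const', Multiset.sum_replicate, smul_eq_mul, mul_comm]
  rfl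

/-- **the transpositions of an involution** -/
theorem pairs_bot {ζ : Perm α} (h2 : ζ * ζ = 1) (h10 : 9 ≤ ζ.support.card) (R : Subgroup (Perm α))
    (hR : ∀ r ∈ R, ∃ k : ℕ, r ^ 2 ^ k = 1) (hRz : ∀ r ∈ R, r * ζ = ζ * r)
    (hn : ∀ σ : Perm α, σ * ζ = ζ * σ → sign σ = 1 → ∀ r ∈ R, σ * r * σ⁻¹ ∈ R) :
    ∀ r ∈ R, ∀ i, r * swap i (ζ i) = swap i (ζ i) * r := by
  classical
  have hcard : 5 ≤ ζ.cycleFactorsFinset.card := by
    have := card_support_eq h2
    omega
  let θ := OnCycleFactors.toPermHom ζ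
  have hmem : ∀ σ : Perm α, σ * ζ = ζ * σ → σ ∈ Subgroup.centralizer ({ζ} : Set (Perm α)) := by
    intro σ hσ
    rw [Subgroup.mem_centralizer_singleton_iff]
    exact hσ
  let H : Subgroup (Perm ζ.cycleFactorsFinset) := (R.subgroupOf (Subgroup.centralizer ({ζ} : Set (Perm α)))).map θ
  have hH : H = ⊥ := by
    refine two_bot ?_ H ?_ ?_
    · rw [Nat.card_eq_fintype_card, Fintype.card_coe]; exact hcard
    · rintro _ ⟨r, hr, rfl⟩
      obtain ⟨k, hk⟩ := hR r hr
      refine ⟨k, ?_⟩
      rw [← map_pow]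
      have : r ^ 2 ^ k = 1 := Subtype.ext hk
      rw [this, map_one]
    · rintro τ hτ _ ⟨r, hr, rfl⟩
      -- `τ = (τ⁻¹) ^ 2`
      have h3 : τ⁻¹ ∈ (OnCycleFactors.toPermHom ζ).range := by
        rw [OnCycleFactors.mem_range_toPermHom_iff]
        intro c
        rw [card_support_factor h2 (τ⁻¹ c).2, card_support_factor h2 c.2]
      obtain ⟨c, hc⟩ := h3
      have h4 : τ = θ (c * c) := by
        have h5 : τ ^ 3 = 1 := by rw [← hτ.orderOf, pow_orderOf_eq_one]
        rw [map_mul]
        change τ = OnCycleFactors.toPermHom ζ c * OnCycleFactors.toPermHom ζ c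
        rw [hc]
        rw [← mul_inv_rev, eq_inv_iff_mul_eq_one, ← h5, pow_succ, pow_two, mul_assoc]
      refine ⟨(c * c) * r * (c * c)⁻¹, ?_, ?_⟩
      · refine hn ((c * c : Subgroup.centralizer ({ζ} : Set (Perm α))) : Perm α) ?_ ?_ _ hr
        · exact Subgroup.mem_centralizer_singleton_iff.1 (c * c).2
        · change sign ((c : Perm α) * (c : Perm α)) = 1
          rw [map_mul, Int.units_mul_self]
      · rw [map_mul, map_mul, map_inv, ← h4]
  intro r hr i
  have h3 : θ ⟨r, hmem r (hRz r hr)⟩ ∈ H := ⟨⟨r, hmem r (hRz r hr)⟩, hr, rfl⟩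
  rw [hH, Subgroup.mem_bot, ← MonoidHom.mem_ker, OnCycleFactors.mem_ker_toPermHom_iff] at h3
  by_cases hi : ζ i = i
  · rw [hi, swap_self]; rfl
  · have h4 : ζ.cycleOf i ∈ ζ.cycleFactorsFinset := by
      rw [Perm.cycleOf_mem_cycleFactorsFinset_iff, Perm.mem_support]
      exact hi
    rw [← cycleOf_invol h2 i]
    exact h3 _ h4

end Pairs

end Cfsg.Agent.H138.Tall
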